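import Cfsg.Agent.Lib.Plane4.Basic

/-! Coordinatisation of a plane of order 4 from a labelled hyperoval. -/

set_option autoImplicit false

namespace Cfsg.Agent.Lib.Plane4.Coord

open Finset
open Cfsg.Agent.Lib.Plane4.Model Cfsg.Agent.Lib.Plane4.Basic

variable {α : Type*} [Fintype α] [DecidableEq α]

/-- A labelled hyperoval. -/
structure Frame (L : Finset (Finset α)) where
  h : Fin 6 → α
  inj : Function.Injective h
  arc : IsArc L (univ.image h)

/-- `x` is the point of the matching `k`. -/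
def Good (L : Finset (Finset α)) (h : Fin 6 → α) (k : Fin 15) (x : α) : Prop :=
  ∀ i, ∃ l ∈ L, x ∈ l ∧ h i ∈ l ∧ h (partner k i) ∈ l

/-- A second starting point, outside the pair of `0`. -/
def second (k : Fin 15) : Fin 6 := if partner k 0 = 1 then 2 else 1

theorem second_spec : ∀ k, second k ≠ 0 ∧ second k ≠ partner k 0 ∧ partner k (second k) ≠ 0 ∧
    partner k (second k) ≠ partner k 0 := by decide +kernel

theorem sixth : ∀ k i j, i ≠ 0 → i ≠ partner k 0 → i ≠ second k → i ≠ partner k (second k) →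
    j ≠ 0 → j ≠ partner k 0 → j ≠ second k → j ≠ partner k (second k) → j ≠ i → j = partner k i := by
  decide +kernel

theorem card_lines_model : ∀ l, (lines l).card = 5 := by decide +kernel

variable {L : Finset (Finset α)}

namespace Frame

variable (F : Frame L)

theorem card_H : (univ.image F.h).card = 6 := by
  rw [Finset.card_image_of_injective _ F.inj]; simp

theorem mem_two {l : Finset α} (hl : l ∈ L) {i j t : Fin 6} (hij : i ≠ j) (il : F.h i ∈ l) (jl : F.h j ∈ l)
    (tl : F.h t ∈ l) : t = i ∨ t = j := by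
  by_contra hc
  push Not at hc
  have hsub : ({F.h i, F.h j, F.h t} : Finset α) ⊆ l ∩ univ.image F.h := by
    simp [Finset.insert_subset_iff, *]
  have := Finset.card_le_card hsub
  rw [Finset.card_eq_three.mpr ⟨_, _, _, F.inj.ne hij, F.inj.ne hc.1.symm, F.inj.ne hc.2.symm, rfl⟩] at this
  have := F.arc l hl
  omega

theorem secant (hp : IsPlane L) {m : Finset α} (hm : m ∈ L) {i : Fin 6} (im : F.h i ∈ m) :
    ∃ j, j ≠ i ∧ F.h j ∈ m := by
  have hS : ((univ.image F.h).erase (F.h i)).card = 5 := by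
    rw [Finset.card_erase_of_mem (Finset.mem_image_of_mem _ (Finset.mem_univ i)), F.card_H]
  obtain ⟨a, ha, am⟩ := hp.mem_of_joins hS (by simp) (fun a ha b hb l hl il al bl => by
    obtain ⟨ha1, ha2⟩ := Finset.mem_erase.mp ha
    obtain ⟨hb1, hb2⟩ := Finset.mem_erase.mp hb
    obtain ⟨s, -, rfl⟩ := Finset.mem_image.mp ha2
    obtain ⟨t, -, rfl⟩ := Finset.mem_image.mp hb2
    have hsi : i ≠ s := fun e => ha1 (by rw [e])
    rcases F.mem_two hl hsi il al bl with e | e
    · exact absurd (by rw [e]) hb1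
    · rw [e]) hm im
  obtain ⟨ha1, ha2⟩ := Finset.mem_erase.mp ha
  obtain ⟨j, -, rfl⟩ := Finset.mem_image.mp ha2
  exact ⟨j, fun e => ha1 (by rw [e]), am⟩

variable {k : Fin 15} {x : α}

theorem good_not_mem (hk : Good L F.h k x) (t : Fin 6) : x ≠ F.h t := by
  intro e
  obtain ⟨l, hl, xl, a1, b1⟩ := hk 0
  obtain ⟨m, hm, xm, c1, d1⟩ := hk (second k)
  obtain ⟨s1, s2, s3, s4⟩ := second_spec k
  rw [e] at xl xm
  rcases F.mem_two hl (partner_ne k 0).1.symm a1 b1 xl with rfl | rfl <;>
    rcases F.mem_two hm (partner_ne k (second k)).1.symm c1 d1 xm with e' | e'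
  · exact s1 e'.symm
  · exact s3 e'.symm
  · exact s2 e'.symm
  · exact s4 e'.symm

theorem good_unique (hp : IsPlane L) {y : α} (hx : Good L F.h k x) (hy : Good L F.h k y) : x = y := by
  obtain ⟨l, hl, xl, a1, b1⟩ := hx 0
  obtain ⟨m, hm, xm, c1, d1⟩ := hx (second k)
  obtain ⟨l', hl', yl, a1', b1'⟩ := hy 0
  obtain ⟨m', hm', ym, c1', d1'⟩ := hy (second k)
  have n0 : F.h 0 ≠ F.h (partner k 0) := F.inj.ne (partner_ne k 0).1.symm
  have nc : F.h (second k) ≠ F.h (partner k (second k)) := F.inj.ne (partner_ne k _).1.symm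
  obtain rfl := hp.line_unique n0 hl hl' a1 b1 a1' b1'
  obtain rfl := hp.line_unique nc hm hm' c1 d1 c1' d1'
  have hne : l ≠ m := by
    rintro rfl
    rcases F.mem_two hl (partner_ne k 0).1.symm a1 b1 c1 with e | e
    · exact (second_spec k).1 e
    · exact (second_spec k).2.1 e
  by_contra hxy
  exact hne (hp.line_unique hxy hl hm xl yl xm ym)

theorem good_exists (hp : IsPlane L) (k : Fin 15) : ∃ x, Good L F.h k x := by
  obtain ⟨s1, s2, s3, s4⟩ := second_spec k
  obtain ⟨l, hl, a1, b1⟩ := hp.exists_line (F.inj.ne (partner_ne k 0).1.symm)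
  obtain ⟨m, hm, c1, d1⟩ := hp.exists_line (F.inj.ne (partner_ne k (second k)).1.symm)
  obtain ⟨x, xl, xm⟩ := hp.meet hl hm
  have hnot : ∀ t, x ≠ F.h t := by
    intro t e
    rw [e] at xl xm
    rcases F.mem_two hl (partner_ne k 0).1.symm a1 b1 xl with rfl | rfl <;>
      rcases F.mem_two hm (partner_ne k (second k)).1.symm c1 d1 xm with e' | e'
    · exact s1 e'.symm
    · exact s3 e'.symm
    · exact s2 e'.symm
    · exact s4 e'.symm
  refine ⟨x, fun i => ?_⟩
  by_cases i0 : i = 0
  · exact ⟨l, hl, xl, i0 ▸ a1, i0 ▸ b1⟩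
  by_cases i1 : i = partner k 0
  · refine ⟨l, hl, xl, i1 ▸ b1, ?_⟩
    rw [i1, (partner_ne k 0).2]; exact a1
  by_cases i2 : i = second k
  · exact ⟨m, hm, xm, i2 ▸ c1, i2 ▸ d1⟩
  by_cases i3 : i = partner k (second k)
  · refine ⟨m, hm, xm, i3 ▸ d1, ?_⟩
    rw [i3, (partner_ne k (second k)).2]; exact c1
  obtain ⟨n, hn, xn, i_n⟩ := hp.exists_line (hnot i)
  obtain ⟨j, hji, jn⟩ := F.secant hp hn i_n
  have out_l : F.h j ∉ l := fun jl => by
    have e := hp.line_unique (hnot j) hn hl xn jn xl jl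
    rw [e] at i_n
    exact (F.mem_two hl (partner_ne k 0).1.symm a1 b1 i_n).elim i0 i1
  have out_m : F.h j ∉ m := fun jm => by
    have e := hp.line_unique (hnot j) hn hm xn jn xm jm
    rw [e] at i_n
    exact (F.mem_two hm (partner_ne k (second k)).1.symm c1 d1 i_n).elim i2 i3
  have hj := sixth k i j i0 i1 i2 i3 (fun e => out_l (e ▸ a1)) (fun e => out_l (e ▸ b1))
    (fun e => out_m (e ▸ c1)) (fun e => out_m (e ▸ d1)) hji
  exact ⟨n, hn, xn, i_n, hj ▸ jn⟩

/-- The point attached to a matching. -/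
noncomputable def pt (hp : IsPlane L) (k : Fin 15) : α := (F.good_exists hp k).choose

theorem pt_good (hp : IsPlane L) (k : Fin 15) : Good L F.h k (F.pt hp k) :=
  (F.good_exists hp k).choose_spec

theorem pt_inj (hp : IsPlane L) : Function.Injective (F.pt hp) := by
  intro k k' e
  refine partner_injective k k' fun i => ?_
  obtain ⟨l, hl, xl, il, jl⟩ := F.pt_good hp k i
  obtain ⟨l', hl', xl', il', jl'⟩ := F.pt_good hp k' i
  rw [← e] at xl'
  obtain rfl := hp.line_unique (F.good_not_mem (F.pt_good hp k) i) hl hl' xl il xl' il'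
  rcases F.mem_two hl (partner_ne k i).1.symm il jl jl' with e' | e'
  · exact absurd e' (partner_ne k' i).1
  · exact e'.symm

/-- The coordinate map. -/
noncomputable def coord (hp : IsPlane L) (p : Fin 21) : α :=
  if hp6 : p.val < 6 then F.h ⟨p.val, hp6⟩ else F.pt hp ⟨p.val - 6, by omega⟩

theorem coord_hpt (hp : IsPlane L) (i : Fin 6) : F.coord hp (hpt i) = F.h i := by
  unfold coord
  rw [dif_pos (show (hpt i).val < 6 from i.2)]
  rfl

theorem coord_mpt (hp : IsPlane L) (k : Fin 15) : F.coord hp (mpt k) = F.pt hp k := by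
  unfold coord
  rw [dif_neg (show ¬ (mpt k).val < 6 by show ¬ (6 + (k : ℕ) < 6); omega)]
  congr 1
  exact Fin.ext (show 6 + (k : ℕ) - 6 = k by omega)

theorem coord_bij (hp : IsPlane L) : Function.Bijective (F.coord hp) := by
  rw [Fintype.bijective_iff_injective_and_card]
  refine ⟨fun p q e => ?_, by rw [Fintype.card_fin, hp.card]⟩
  rcases split p with ⟨i, rfl⟩ | ⟨k, rfl⟩ <;> rcases split q with ⟨j, rfl⟩ | ⟨k', rfl⟩
  · rw [coord_hpt, coord_hpt] at e; rw [F.inj e]
  · rw [coord_hpt, coord_mpt] at e; exact absurd e.symm (F.good_not_mem (F.pt_good hp k') i)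
  · rw [coord_hpt, coord_mpt] at e; exact absurd e (F.good_not_mem (F.pt_good hp k) j)
  · rw [coord_mpt, coord_mpt] at e; rw [F.pt_inj hp e]

theorem coord_lines (hp : IsPlane L) :
    L = univ.image (fun s => (lines s).image (F.coord hp)) := by
  refine Finset.eq_of_subset_of_card_le (fun l hl => ?_) ?_
  · refine Finset.mem_image.mpr ?_
    by_cases hmeet : ∃ i, F.h i ∈ l
    · obtain ⟨i, il⟩ := hmeet
      obtain ⟨j, hji, jl⟩ := F.secant hp hl il
      obtain ⟨s, hs⟩ := pairs_cover i j hji.symm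
      refine ⟨⟨s, by omega⟩, Finset.mem_univ _, Finset.eq_of_subset_of_card_le ?_ ?_⟩
      · intro x hx
        obtain ⟨p, hpm, rfl⟩ := Finset.mem_image.mp hx
        have hl2 : F.h (pairs s).1 ∈ l ∧ F.h (pairs s).2 ∈ l := by
          rcases hs with e | e <;> rw [e] <;> exact ⟨by assumption, by assumption⟩
        rcases (pair_line s p).mp hpm with e | e | ⟨k, e, hk⟩ <;> rw [e]
        · rw [coord_hpt]; exact hl2.1
        · rw [coord_hpt]; exact hl2.2
        · rw [coord_mpt]
          obtain ⟨m, hm, xm, am, bm⟩ := F.pt_good hp k (pairs s).1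
          rw [hk] at bm
          rw [hp.line_unique (F.inj.ne (pairs_lt s)) hl hm hl2.1 hl2.2 am bm]
          exact xm
      · rw [Finset.card_image_of_injective _ (F.coord_bij hp).1, card_lines_model, hp.card_line hl]
    · push Not at hmeet
      let S : Finset (Fin 15) := univ.filter fun k => F.pt hp k ∈ l
      have hSl : S.image (F.pt hp) = l := by
        ext x
        simp only [S, Finset.mem_image, Finset.mem_filter, Finset.mem_univ, true_and]
        refine ⟨fun ⟨k, hk, e⟩ => e ▸ hk, fun hx => ?_⟩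
        obtain ⟨p, rfl⟩ := (F.coord_bij hp).2 x
        rcases split p with ⟨i, rfl⟩ | ⟨k, rfl⟩
        · rw [coord_hpt] at hx; exact absurd hx (hmeet i)
        · rw [coord_mpt] at hx ⊢; exact ⟨k, hx, rfl⟩
      have hS : S.card = 5 := by
        rw [← Finset.card_image_of_injective S (F.pt_inj hp), hSl, hp.card_line hl]
      let e := S.orderEmbOfFin hS
      have he : ∀ a, F.pt hp (e a) ∈ l := fun a =>
        (Finset.mem_filter.mp (S.orderEmbOfFin_mem hS a)).2
      have hap : ∀ a b, a < b → Apart (e a) (e b) := by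
        intro a b hab i hi
        obtain ⟨m, hm, xm, am, bm⟩ := F.pt_good hp (e a) i
        obtain ⟨m', hm', xm', am', bm'⟩ := F.pt_good hp (e b) i
        rw [← hi] at bm'
        obtain rfl := hp.line_unique (F.inj.ne (partner_ne (e a) i).1.symm) hm hm' am bm am' bm'
        have : F.pt hp (e a) ≠ F.pt hp (e b) := (F.pt_inj hp).ne (e.injective.ne (ne_of_lt hab))
        exact hmeet i (hp.line_unique this hm hl xm xm' (he a) (he b) ▸ am)
      have hlt : ∀ a b, a < b → e a < e b := fun a b hab => e.strictMono hab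
      obtain ⟨s, hs⟩ := factorisations (e 0) (e 1) (hlt _ _ (by decide)) (hap _ _ (by decide))
        (e 2) (hlt _ _ (by decide)) (hap _ _ (by decide)) (hap _ _ (by decide))
        (e 3) (hlt _ _ (by decide)) (hap _ _ (by decide)) (hap _ _ (by decide)) (hap _ _ (by decide))
        (e 4) (hlt _ _ (by decide)) (hap _ _ (by decide)) (hap _ _ (by decide)) (hap _ _ (by decide))
          (hap _ _ (by decide))
      refine ⟨s, Finset.mem_univ _, Finset.eq_of_subset_of_card_le ?_ ?_⟩
      · rw [hs]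
        simp [Finset.image_insert, Finset.insert_subset_iff, coord_mpt, he]
      · rw [Finset.card_image_of_injective _ (F.coord_bij hp).1, card_lines_model, hp.card_line hl]
  · rw [hp.card_lines]
    exact Finset.card_image_le.trans (by simp)

theorem fixes_all (hp : IsPlane L) (g : Equiv.Perm α) (hg : ∀ l ∈ L, l.image g ∈ L)
    (hfix : ∀ i, g (F.h i) = F.h i) : g = 1 := by
  refine Equiv.ext fun x => ?_
  obtain ⟨p, rfl⟩ := (F.coord_bij hp).2 x
  rcases split p with ⟨i, rfl⟩ | ⟨k, rfl⟩
  · rw [coord_hpt]; exact hfix i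
  · rw [coord_mpt]
    refine F.good_unique hp (k := k) (fun i => ?_) (F.pt_good hp k)
    obtain ⟨l, hl, xl, il, jl⟩ := F.pt_good hp k i
    refine ⟨l.image g, hg l hl, Finset.mem_image_of_mem g xl, ?_, ?_⟩
    · rw [← hfix i]; exact Finset.mem_image_of_mem g il
    · rw [← hfix (partner k i)]; exact Finset.mem_image_of_mem g jl

end Frame

/-- Frames exist. -/
theorem exists_frame (hp : IsPlane L) : Nonempty (Frame L) := by
  classical
  obtain ⟨Q, hQ⟩ := Finset.card_pos.mp (show 0 < ((powersetCard 4 (univ : Finset α)).filter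
    fun S => IsArc L S).card by rw [hp.card_arcs]; omega)
  simp only [Finset.mem_filter, Finset.mem_powersetCard] at hQ
  obtain ⟨H, ⟨⟨h6, hH⟩, -⟩, -⟩ := hp.hyperoval_unique hQ.1.2 hQ.2
  let e := (H.equivFinOfCardEq h6).symm
  refine ⟨⟨fun i => (e i).1, Subtype.val_injective.comp e.injective, ?_⟩⟩
  convert hH
  ext x
  simp only [Finset.mem_image, Finset.mem_univ, true_and]
  exact ⟨fun ⟨i, hi⟩ => hi ▸ (e i).2, fun hx => ⟨e.symm ⟨x, hx⟩, by simp⟩⟩

/-- Two framed planes are carried onto one another by a bijection respecting the frames. -/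
theorem exists_iso {β : Type*} [Fintype β] [DecidableEq β] {M : Finset (Finset β)} (hp : IsPlane L)
    (hq : IsPlane M) (F : Frame L) (F' : Frame M) :
    ∃ e : α ≃ β, (∀ i, e (F.h i) = F'.h i) ∧ L.image (fun b => b.image e) = M := by
  let a := Equiv.ofBijective _ (F.coord_bij hp)
  let b := Equiv.ofBijective _ (F'.coord_bij hq)
  refine ⟨a.symm.trans b, fun i => ?_, ?_⟩
  · show b (a.symm (F.h i)) = F'.h i
    rw [← F.coord_hpt hp i, show F.coord hp (hpt i) = a (hpt i) from rfl, Equiv.symm_apply_apply]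
    exact F'.coord_hpt hq i
  · conv_lhs => rw [F.coord_lines hp]
    rw [F'.coord_lines hq, Finset.image_image]
    refine Finset.image_congr fun s _ => ?_
    simp only [Function.comp_apply, Finset.image_image]
    refine Finset.image_congr fun p _ => ?_
    show b (a.symm (a p)) = _
    rw [Equiv.symm_apply_apply]; rfl

end Cfsg.Agent.Lib.Plane4.Coord
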