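import Mathlib

/-!
A model of the projective plane of order 4: points are six points and the fifteen fixed-point-free
involutions on them; lines are the fifteen pairs and the six factorisations.
-/

set_option autoImplicit false

namespace Cfsg.Agent.Lib.Plane4.Model

def partner : Fin 15 → Fin 6 → Fin 6 :=
  ![![1, 0, 3, 2, 5, 4], ![1, 0, 4, 5, 2, 3], ![1, 0, 5, 4, 3, 2], ![2, 3, 0, 1, 5, 4],
    ![2, 4, 0, 5, 1, 3], ![2, 5, 0, 4, 3, 1], ![3, 2, 1, 0, 5, 4], ![3, 4, 5, 0, 1, 2],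
    ![3, 5, 4, 0, 2, 1], ![4, 2, 1, 5, 0, 3], ![4, 3, 5, 1, 0, 2], ![4, 5, 3, 2, 0, 1],
    ![5, 2, 1, 4, 3, 0], ![5, 3, 4, 1, 2, 0], ![5, 4, 3, 2, 1, 0]]

def pairs : Fin 15 → Fin 6 × Fin 6 :=
  ![(0, 1), (0, 2), (0, 3), (0, 4), (0, 5), (1, 2), (1, 3), (1, 4), (1, 5), (2, 3), (2, 4), (2, 5),
    (3, 4), (3, 5), (4, 5)]

def lines : Fin 21 → Finset (Fin 21) :=
  ![{0, 1, 6, 7, 8}, {0, 2, 9, 10, 11}, {0, 3, 12, 13, 14}, {0, 4, 15, 16, 17}, {0, 5, 18, 19, 20},
    {1, 2, 12, 15, 18}, {1, 3, 9, 16, 19}, {1, 4, 10, 13, 20}, {1, 5, 11, 14, 17}, {2, 3, 6, 17, 20},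
    {2, 4, 7, 14, 19}, {2, 5, 8, 13, 16}, {3, 4, 8, 11, 18}, {3, 5, 7, 10, 15}, {4, 5, 6, 9, 12},
    {6, 10, 14, 16, 18}, {6, 11, 13, 15, 19}, {7, 9, 13, 17, 18}, {7, 11, 12, 16, 20},
    {8, 9, 14, 15, 20}, {8, 10, 12, 17, 19}]

/-- The six points of the hyperoval. -/
def hpt (i : Fin 6) : Fin 21 := ⟨i, by omega⟩

/-- The fifteen points off the hyperoval. -/
def mpt (k : Fin 15) : Fin 21 := ⟨6 + k, by omega⟩

theorem partner_ne : ∀ k i, partner k i ≠ i ∧ partner k (partner k i) = i := by decide +kernel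

theorem partner_injective : ∀ k k', (∀ i, partner k i = partner k' i) → k = k' := by decide +kernel

theorem pairs_lt : ∀ s, (pairs s).1 ≠ (pairs s).2 := by decide +kernel

theorem pairs_cover : ∀ i j, i ≠ j → ∃ s, pairs s = (i, j) ∨ pairs s = (j, i) := by decide +kernel

theorem pairs_injective : ∀ s s', pairs s = pairs s' → s = s' := by decide +kernel

theorem split : ∀ p : Fin 21, (∃ i, hpt i = p) ∨ (∃ k, mpt k = p) := by decide +kernel

theorem pair_line : ∀ s : Fin 15, ∀ p : Fin 21, p ∈ lines ⟨s, by omega⟩ ↔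
    (p = hpt (pairs s).1 ∨ p = hpt (pairs s).2 ∨ ∃ k, p = mpt k ∧ partner k (pairs s).1 = (pairs s).2) := by
  decide +kernel

theorem lines_injective : ∀ l l', lines l = lines l' → l = l' := by decide +kernel

/-- Two matchings share no pair. -/
def Apart (a b : Fin 15) : Prop := ∀ i, partner a i ≠ partner b i

instance decApart (a b : Fin 15) : Decidable (Apart a b) := by unfold Apart; infer_instance

theorem factorisations : ∀ a b : Fin 15, a < b → Apart a b → ∀ c, b < c → Apart a c → Apart b c →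
    ∀ d, c < d → Apart a d → Apart b d → Apart c d →
    ∀ e, d < e → Apart a e → Apart b e → Apart c e → Apart d e →
    ∃ l, lines l = {mpt a, mpt b, mpt c, mpt d, mpt e} := by decide +kernel

end Cfsg.Agent.Lib.Plane4.Model
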