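import Cfsg.Agent.Lib.AbstractGolay.Steiner
import Cfsg.Agent.Lib.Plane4.Model

/-!
Projective planes of order 4 as Steiner systems S(2,5,21): hyperovals and coordinatisation.
-/

set_option autoImplicit false

namespace Cfsg.Agent.Lib.Plane4.Basic

open Finset

variable {α : Type*} [Fintype α] [DecidableEq α]

/-- A projective plane of order 4. -/
structure IsPlane (L : Finset (Finset α)) : Prop where
  card : Fintype.card α = 21
  steiner : Cfsg.IsSteinerSystem 2 5 (L : Set (Finset α))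

/-- No three points on a line. -/
def IsArc (L : Finset (Finset α)) (S : Finset α) : Prop := ∀ l ∈ L, (l ∩ S).card ≤ 2

theorem IsArc.mono {L : Finset (Finset α)} {S T : Finset α} (h : IsArc L S) (hTS : T ⊆ S) :
    IsArc L T :=
  fun l hl => (Finset.card_le_card (Finset.inter_subset_inter_left hTS)).trans (h l hl)

namespace IsPlane

variable {L : Finset (Finset α)}

theorem card_line (h : IsPlane L) {l : Finset α} (hl : l ∈ L) : l.card = 5 := h.steiner.1 l hl

theorem exists_line (h : IsPlane L) {p q : α} (hpq : p ≠ q) : ∃ l ∈ L, p ∈ l ∧ q ∈ l := by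
  obtain ⟨l, ⟨hl, hs⟩, -⟩ := h.steiner.2 {p, q} (Finset.card_pair hpq)
  exact ⟨l, hl, hs (by simp), hs (by simp)⟩

theorem line_unique (h : IsPlane L) {p q : α} (hpq : p ≠ q) {l m : Finset α} (hl : l ∈ L) (hm : m ∈ L)
    (pl : p ∈ l) (ql : q ∈ l) (pm : p ∈ m) (qm : q ∈ m) : l = m :=
  (h.steiner.2 {p, q} (Finset.card_pair hpq)).unique
    ⟨hl, by simp [Finset.insert_subset_iff, pl, ql]⟩ ⟨hm, by simp [Finset.insert_subset_iff, pm, qm]⟩

theorem inter_eq (h : IsPlane L) {l m : Finset α} (hl : l ∈ L) (hm : m ∈ L) (hne : l ≠ m) {p : α}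
    (pl : p ∈ l) (pm : p ∈ m) : l ∩ m = {p} := by
  ext q
  simp only [Finset.mem_inter, Finset.mem_singleton]
  refine ⟨fun hq => ?_, fun hq => hq ▸ ⟨pl, pm⟩⟩
  by_contra hqp
  exact hne (h.line_unique hqp hl hm hq.1 pl hq.2 pm)

theorem card_through (h : IsPlane L) (p : α) : (L.filter fun l => p ∈ l).card = 5 := by
  have h1 := AbstractGolay.Steiner.blocks_through h.steiner (S := {p}) (by simp)
  rw [h.card] at h1
  have e : {b : Finset α | b ∈ (L : Set (Finset α)) ∧ ({p} : Finset α) ⊆ b} =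
      ((L.filter fun l => p ∈ l : Finset (Finset α)) : Set (Finset α)) := by
    ext b; simp
  rw [e, Set.ncard_coe_finset, Finset.card_singleton] at h1
  have h2 : Nat.choose (5 - 1) (2 - 1) = 4 := rfl
  have h3 : Nat.choose (21 - 1) (2 - 1) = 20 := rfl
  rw [h2, h3] at h1
  omega

theorem card_lines (h : IsPlane L) : L.card = 21 := by
  have h1 := AbstractGolay.Steiner.blocks_through h.steiner (S := (∅ : Finset α)) (by simp)
  rw [h.card] at h1
  have e : {b : Finset α | b ∈ (L : Set (Finset α)) ∧ (∅ : Finset α) ⊆ b} = (L : Set (Finset α)) := by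
    ext b; simp
  rw [e, Set.ncard_coe_finset, Finset.card_empty] at h1
  have h2 : Nat.choose (5 - 0) (2 - 0) = 10 := rfl
  have h3 : Nat.choose (21 - 0) (2 - 0) = 210 := rfl
  rw [h2, h3] at h1
  omega

/-- If a point `p` is joined injectively to five points, every line through `p` is one of the joins. -/
theorem mem_of_joins (h : IsPlane L) {p : α} {S : Finset α} (hS : S.card = 5) (hp : p ∉ S)
    (hinj : ∀ a ∈ S, ∀ b ∈ S, ∀ l ∈ L, p ∈ l → a ∈ l → b ∈ l → a = b) {m : Finset α} (hm : m ∈ L)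
    (pm : p ∈ m) : ∃ a ∈ S, a ∈ m := by
  choose f hf using fun (a : α) (ha : a ∈ S) => h.exists_line (fun e : p = a => hp (e ▸ ha))
  have hsub : S.attach.image (fun a => f a.1 a.2) = L.filter fun l => p ∈ l := by
    refine Finset.eq_of_subset_of_card_le ?_ ?_
    · intro l hl
      obtain ⟨a, -, rfl⟩ := Finset.mem_image.mp hl
      exact Finset.mem_filter.mpr ⟨(hf a.1 a.2).1, (hf a.1 a.2).2.1⟩
    · rw [h.card_through, Finset.card_image_of_injective _ (fun a b e => Subtype.ext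
        (hinj a.1 a.2 b.1 b.2 _ (hf a.1 a.2).1 (hf a.1 a.2).2.1 (hf a.1 a.2).2.2
          (by have e' : f a.1 a.2 = f b.1 b.2 := e
              rw [e']; exact (hf b.1 b.2).2.2))), Finset.card_attach, hS]
  have hm' : m ∈ S.attach.image (fun a => f a.1 a.2) := hsub ▸ Finset.mem_filter.mpr ⟨hm, pm⟩
  obtain ⟨a, -, rfl⟩ := Finset.mem_image.mp hm'
  exact ⟨a.1, a.2, (hf a.1 a.2).2.2⟩

theorem meet (h : IsPlane L) {l m : Finset α} (hl : l ∈ L) (hm : m ∈ L) : ∃ p, p ∈ l ∧ p ∈ m := by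
  obtain ⟨p, pm⟩ := Finset.card_pos.mp (show 0 < m.card by rw [h.card_line hm]; omega)
  by_cases pl : p ∈ l
  · exact ⟨p, pl, pm⟩
  obtain ⟨a, al, am⟩ := h.mem_of_joins (h.card_line hl) pl
    (fun a ha b hb n hn pn an bn => by
      by_contra hne
      exact pl (h.line_unique hne hn hl an bn ha hb ▸ pn)) hm pm
  exact ⟨a, al, am⟩

/-- Three sides of a triangle. -/
theorem triangle_off (h : IsPlane L) {a b c : α} {l₁ l₂ l₃ : Finset α} (h₁ : l₁ ∈ L) (h₂ : l₂ ∈ L)
    (h₃ : l₃ ∈ L) (a1 : a ∈ l₁) (b1 : b ∈ l₁) (a2 : a ∈ l₂) (c2 : c ∈ l₂) (b3 : b ∈ l₃) (c3 : c ∈ l₃)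
    (hab : a ≠ b) (hac : a ≠ c) (hbc : b ≠ c) (c1 : c ∉ l₁) :
    (univ \ (l₁ ∪ l₂ ∪ l₃)).card = 9 := by
  have n12 : l₁ ≠ l₂ := fun e => c1 (e ▸ c2)
  have n13 : l₁ ≠ l₃ := fun e => c1 (e ▸ c3)
  have n23 : l₂ ≠ l₃ := fun e =>
    c1 (h.line_unique hab h₂ h₁ a2 (e ▸ b3) a1 b1 ▸ c2)
  have i13 := h.inter_eq h₁ h₃ n13 b1 b3
  have i23 := h.inter_eq h₂ h₃ n23 c2 c3
  have i12 := h.inter_eq h₁ h₂ n12 a1 a2
  have e : (l₁ ∪ l₂) ∩ l₃ = {b, c} := by
    rw [Finset.union_inter_distrib_right, i13, i23]; rfl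
  have u1 := Finset.card_union_add_card_inter l₁ l₂
  have u2 := Finset.card_union_add_card_inter (l₁ ∪ l₂) l₃
  rw [i12, Finset.card_singleton] at u1
  rw [e, Finset.card_pair hbc] at u2
  have := h.card_line h₁
  have := h.card_line h₂
  have := h.card_line h₃
  rw [Finset.card_sdiff_of_subset (Finset.subset_univ _), Finset.card_univ, h.card]
  omega

/-- A line through a vertex, not a side, meets the off-triangle set in three points. -/
theorem cevian_off (h : IsPlane L) {a : α} {m l₁ l₂ l₃ : Finset α} (hm : m ∈ L) (h₁ : l₁ ∈ L)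
    (h₂ : l₂ ∈ L) (h₃ : l₃ ∈ L) (am : a ∈ m) (a1 : a ∈ l₁) (a2 : a ∈ l₂) (a3 : a ∉ l₃)
    (n1 : m ≠ l₁) (n2 : m ≠ l₂) : (m ∩ (univ \ (l₁ ∪ l₂ ∪ l₃))).card = 3 := by
  obtain ⟨r, rm, r3⟩ := h.meet hm h₃
  have n3 : m ≠ l₃ := fun e => a3 (e ▸ am)
  have e : m ∩ (l₁ ∪ l₂ ∪ l₃) = {a, r} := by
    rw [Finset.inter_union_distrib_left, Finset.inter_union_distrib_left, h.inter_eq hm h₁ n1 am a1,
      h.inter_eq hm h₂ n2 am a2, h.inter_eq hm h₃ n3 rm r3]
    ext; simp
  have hc := Finset.card_sdiff_add_card_inter m (l₁ ∪ l₂ ∪ l₃)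
  rw [e, Finset.card_pair (fun e : a = r => a3 (e ▸ r3)), h.card_line hm] at hc
  have : m ∩ (univ \ (l₁ ∪ l₂ ∪ l₃)) = m \ (l₁ ∪ l₂ ∪ l₃) := by ext; simp
  rw [this]; omega

theorem not_three (_h : IsPlane L) {Q : Finset α} (hQ : IsArc L Q) {x y z : α} (hx : x ∈ Q) (hy : y ∈ Q)
    (hz : z ∈ Q) (hxy : x ≠ y) (hxz : x ≠ z) (hyz : y ≠ z) {l : Finset α} (hl : l ∈ L) (xl : x ∈ l)
    (yl : y ∈ l) : z ∉ l := by
  intro zl
  have hsub : ({x, y, z} : Finset α) ⊆ l ∩ Q := by
    simp [Finset.insert_subset_iff, *]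
  have := Finset.card_le_card hsub
  rw [Finset.card_eq_three.mpr ⟨x, y, z, hxy, hxz, hyz, rfl⟩] at this
  have := hQ l hl
  omega

/-- Points off all secants of a 4-arc. -/
def offPts (L : Finset (Finset α)) (Q : Finset α) : Finset α :=
  univ.filter fun p => ∀ l ∈ L, 2 ≤ (l ∩ Q).card → p ∉ l

theorem offPts_spec (h : IsPlane L) {Q : Finset α} (hQ4 : Q.card = 4) (hQ : IsArc L Q) :
    (offPts L Q).card = 2 ∧ ∀ l ∈ L, ∀ e ∈ offPts L Q, ∀ f ∈ offPts L Q, e ≠ f → e ∈ l → f ∈ l →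
      l ∩ Q = ∅ := by
  classical
  have key : ∀ a ∈ Q, ∃ b c d, b ∈ Q ∧ c ∈ Q ∧ d ∈ Q ∧ a ≠ b ∧ a ≠ c ∧ a ≠ d ∧ b ≠ c ∧ b ≠ d ∧ c ≠ d ∧
      ∀ x ∈ Q, x = a ∨ x = b ∨ x = c ∨ x = d := by
    intro a ha
    obtain ⟨b, c, d, hbc, hbd, hcd, e⟩ :=
      Finset.card_eq_three.mp (show (Q.erase a).card = 3 by rw [Finset.card_erase_of_mem ha, hQ4])
    have hm : ∀ x, x ∈ Q.erase a ↔ x = b ∨ x = c ∨ x = d := fun x => by rw [e]; simp
    have hb := Finset.mem_erase.mp ((hm b).mpr (Or.inl rfl))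
    have hc := Finset.mem_erase.mp ((hm c).mpr (Or.inr (Or.inl rfl)))
    have hd := Finset.mem_erase.mp ((hm d).mpr (Or.inr (Or.inr rfl)))
    refine ⟨b, c, d, hb.2, hc.2, hd.2, Ne.symm hb.1, Ne.symm hc.1, Ne.symm hd.1, hbc, hbd, hcd, fun x hx => ?_⟩
    by_cases hxa : x = a
    · exact Or.inl hxa
    · exact Or.inr ((hm x).mp (Finset.mem_erase.mpr ⟨hxa, hx⟩))
  refine ⟨?_, ?_⟩
  · obtain ⟨a, ha⟩ := Finset.card_pos.mp (show 0 < Q.card by omega)
    obtain ⟨b, c, d, hb, hc, hd, hab, hac, had, hbc, hbd, hcd, hall⟩ := key a ha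
    obtain ⟨l₁, h₁, a1, b1⟩ := h.exists_line hab
    obtain ⟨l₂, h₂, a2, c2⟩ := h.exists_line hac
    obtain ⟨l₃, h₃, b3, c3⟩ := h.exists_line hbc
    obtain ⟨m₁, g₁, am, dm1⟩ := h.exists_line had
    obtain ⟨m₂, g₂, bm, dm2⟩ := h.exists_line hbd
    obtain ⟨m₃, g₃, cm, dm3⟩ := h.exists_line hcd
    have c1 := h.not_three hQ ha hb hc hab hac hbc h₁ a1 b1
    have d1 := h.not_three hQ ha hb hd hab had hbd h₁ a1 b1
    have d2 := h.not_three hQ ha hc hd hac had hcd h₂ a2 c2
    have d3 := h.not_three hQ hb hc hd hbc hbd hcd h₃ b3 c3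
    have b2 := h.not_three hQ ha hc hb hac hab hbc.symm h₂ a2 c2
    have a3 := h.not_three hQ hb hc ha hbc hab.symm hac.symm h₃ b3 c3
    have hd3 : d ∈ univ \ (l₁ ∪ l₂ ∪ l₃) := by simp [d1, d2, d3]
    have hT := h.triangle_off h₁ h₂ h₃ a1 b1 a2 c2 b3 c3 hab hac hbc c1
    have hU1 := h.cevian_off g₁ h₁ h₂ h₃ am a1 a2 a3 (fun e => d1 (e ▸ dm1)) (fun e => d2 (e ▸ dm1))
    have hU2 := h.cevian_off g₂ h₁ h₃ h₂ bm b1 b3 b2 (fun e => d1 (e ▸ dm2)) (fun e => d3 (e ▸ dm2))
    have hU3 := h.cevian_off g₃ h₂ h₃ h₁ cm c2 c3 c1 (fun e => d2 (e ▸ dm3)) (fun e => d3 (e ▸ dm3))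
    have e2 : l₁ ∪ l₃ ∪ l₂ = l₁ ∪ l₂ ∪ l₃ := Finset.union_right_comm _ _ _
    have e3 : l₂ ∪ l₃ ∪ l₁ = l₁ ∪ l₂ ∪ l₃ := by rw [Finset.union_comm, Finset.union_assoc]
    rw [e2] at hU2; rw [e3] at hU3
    have n12 : m₁ ≠ m₂ := fun e => h.not_three hQ ha hd hb had hab hbd.symm g₁ am dm1 (e ▸ bm)
    have n13 : m₁ ≠ m₃ := fun e => h.not_three hQ ha hd hc had hac hcd.symm g₁ am dm1 (e ▸ cm)
    have n23 : m₂ ≠ m₃ := fun e => h.not_three hQ hb hd hc hbd hbc hcd.symm g₂ bm dm2 (e ▸ cm)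
    obtain ⟨T, hTdef⟩ : ∃ T, T = univ \ (l₁ ∪ l₂ ∪ l₃) := ⟨_, rfl⟩
    rw [← hTdef] at hd3 hT hU1 hU2 hU3
    have i12 : (m₁ ∩ T) ∩ (m₂ ∩ T) = {d} := by
      rw [← Finset.inter_inter_distrib_right, h.inter_eq g₁ g₂ n12 dm1 dm2]
      simp [hd3]
    have i123 : (m₁ ∩ T ∪ m₂ ∩ T) ∩ (m₃ ∩ T) = {d} := by
      rw [Finset.union_inter_distrib_right, ← Finset.inter_inter_distrib_right,
        ← Finset.inter_inter_distrib_right, h.inter_eq g₁ g₃ n13 dm1 dm3, h.inter_eq g₂ g₃ n23 dm2 dm3]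
      simp [hd3]
    have u1 := Finset.card_union_add_card_inter (m₁ ∩ T) (m₂ ∩ T)
    have u2 := Finset.card_union_add_card_inter (m₁ ∩ T ∪ m₂ ∩ T) (m₃ ∩ T)
    rw [i12, Finset.card_singleton] at u1
    rw [i123, Finset.card_singleton] at u2
    have hoff : offPts L Q = T \ (m₁ ∩ T ∪ m₂ ∩ T ∪ m₃ ∩ T) := by
      ext p
      simp only [offPts, Finset.mem_filter, Finset.mem_univ, true_and, Finset.mem_sdiff,
        Finset.mem_union, Finset.mem_inter, hTdef]
      constructor
      · intro hp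
        have hp' : ∀ x ∈ Q, ∀ y ∈ Q, x ≠ y → ∀ l ∈ L, x ∈ l → y ∈ l → p ∉ l := by
          intro x hx y hy hxy l hl xl yl
          refine hp l hl ?_
          have hsub : ({x, y} : Finset α) ⊆ l ∩ Q := by simp [Finset.insert_subset_iff, *]
          simpa [Finset.card_pair hxy] using Finset.card_le_card hsub
        have q1 := hp' a ha b hb hab l₁ h₁ a1 b1
        have q2 := hp' a ha c hc hac l₂ h₂ a2 c2
        have q3 := hp' b hb c hc hbc l₃ h₃ b3 c3
        have q4 := hp' a ha d hd had m₁ g₁ am dm1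
        have q5 := hp' b hb d hd hbd m₂ g₂ bm dm2
        have q6 := hp' c hc d hd hcd m₃ g₃ cm dm3
        simp [q1, q2, q3, q4, q5, q6]
      · rintro ⟨q, q'⟩ l hl h2 pl
        obtain ⟨x, hx, y, hy, hxy⟩ := Finset.one_lt_card.mp h2
        rw [Finset.mem_inter] at hx hy
        have q1 : p ∉ l₁ := fun z => q (Or.inl (Or.inl z))
        have q2 : p ∉ l₂ := fun z => q (Or.inl (Or.inr z))
        have q3 : p ∉ l₃ := fun z => q (Or.inr z)
        have hT' : ¬((p ∈ l₁ ∨ p ∈ l₂) ∨ p ∈ l₃) := q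
        have q4 : p ∉ m₁ := fun z => q' (Or.inl (Or.inl ⟨z, hT'⟩))
        have q5 : p ∉ m₂ := fun z => q' (Or.inl (Or.inr ⟨z, hT'⟩))
        have q6 : p ∉ m₃ := fun z => q' (Or.inr ⟨z, hT'⟩)
        have fin : ∀ k ∈ L, x ∈ k → y ∈ k → p ∉ k → False := fun k hk xk yk pk =>
          pk (h.line_unique hxy hl hk hx.1 hy.1 xk yk ▸ pl)
        rcases hall x hx.2 with rfl | rfl | rfl | rfl <;> rcases hall y hy.2 with rfl | rfl | rfl | rfl
        all_goals first
          | exact absurd rfl hxy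
          | exact fin l₁ h₁ (by assumption) (by assumption) q1
          | exact fin l₂ h₂ (by assumption) (by assumption) q2
          | exact fin l₃ h₃ (by assumption) (by assumption) q3
          | exact fin m₁ g₁ (by assumption) (by assumption) q4
          | exact fin m₂ g₂ (by assumption) (by assumption) q5
          | exact fin m₃ g₃ (by assumption) (by assumption) q6
    rw [hoff, Finset.card_sdiff_of_subset (fun z hz => by
      simp only [Finset.mem_union, Finset.mem_inter] at hz; tauto)]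
    omega
  · intro m hm e he f hf hef em fm
    rw [Finset.eq_empty_iff_forall_notMem]
    intro a ha
    obtain ⟨am, ha⟩ := Finset.mem_inter.mp ha
    obtain ⟨b, c, d, hb, hc, hd, hab, hac, had, hbc, hbd, hcd, -⟩ := key a ha
    have hoff : ∀ {p}, p ∈ offPts L Q → ∀ {x y}, x ∈ Q → y ∈ Q → x ≠ y →
        ∀ {l}, l ∈ L → x ∈ l → y ∈ l → p ∉ l := by
      intro p hp x y hx hy hxy l hl xl yl
      refine (Finset.mem_filter.mp hp).2 l hl ?_
      have hsub : ({x, y} : Finset α) ⊆ l ∩ Q := by simp [Finset.insert_subset_iff, *]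
      simpa [Finset.card_pair hxy] using Finset.card_le_card hsub
    have out : ∀ {x}, x ∈ Q → a ≠ x → x ∉ m := fun hx hax xm => hoff he ha hx hax hm am xm em
    obtain ⟨l₃, h₃, b3, c3⟩ := h.exists_line hbc
    obtain ⟨l₄, h₄, b4, d4⟩ := h.exists_line hbd
    obtain ⟨l₅, h₅, c5, d5⟩ := h.exists_line hcd
    obtain ⟨u, um, u3⟩ := h.meet hm h₃
    obtain ⟨v, vm, v4⟩ := h.meet hm h₄
    obtain ⟨w, wm, w5⟩ := h.meet hm h₅
    have a3 := h.not_three hQ hb hc ha hbc hab.symm hac.symm h₃ b3 c3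
    have a4 := h.not_three hQ hb hd ha hbd hab.symm had.symm h₄ b4 d4
    have a5 := h.not_three hQ hc hd ha hcd hac.symm had.symm h₅ c5 d5
    have huv : u ≠ v := by
      rintro rfl
      have hne : l₃ ≠ l₄ := fun e => h.not_three hQ hb hc hd hbc hbd hcd h₃ b3 c3 (e ▸ d4)
      have : u ∈ ({b} : Finset α) := h.inter_eq h₃ h₄ hne b3 b4 ▸ Finset.mem_inter.mpr ⟨u3, v4⟩
      exact out hb hab (Finset.mem_singleton.mp this ▸ um)
    have huw : u ≠ w := by
      rintro rfl
      have hne : l₃ ≠ l₅ := fun e => h.not_three hQ hb hc hd hbc hbd hcd h₃ b3 c3 (e ▸ d5)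
      have : u ∈ ({c} : Finset α) := h.inter_eq h₃ h₅ hne c3 c5 ▸ Finset.mem_inter.mpr ⟨u3, w5⟩
      exact out hc hac (Finset.mem_singleton.mp this ▸ um)
    have hvw : v ≠ w := by
      rintro rfl
      have hne : l₄ ≠ l₅ := fun e => h.not_three hQ hb hd hc hbd hbc hcd.symm h₄ b4 d4 (e ▸ c5)
      have : v ∈ ({d} : Finset α) := h.inter_eq h₄ h₅ hne d4 d5 ▸ Finset.mem_inter.mpr ⟨v4, w5⟩
      exact out hd had (Finset.mem_singleton.mp this ▸ vm)
    have ne3 : ∀ {p}, p ∈ offPts L Q → p ≠ u := fun hp e => hoff hp hb hc hbc h₃ b3 c3 (e ▸ u3)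
    have ne4 : ∀ {p}, p ∈ offPts L Q → p ≠ v := fun hp e => hoff hp hb hd hbd h₄ b4 d4 (e ▸ v4)
    have ne5 : ∀ {p}, p ∈ offPts L Q → p ≠ w := fun hp e => hoff hp hc hd hcd h₅ c5 d5 (e ▸ w5)
    obtain ⟨l₁, h₁, a1, b1⟩ := h.exists_line hab
    have hae : a ≠ e := fun x => hoff he ha hb hab h₁ a1 b1 (x ▸ a1)
    have haf : a ≠ f := fun x => hoff hf ha hb hab h₁ a1 b1 (x ▸ a1)
    have hsub : ({a, e, f, u, v, w} : Finset α) ⊆ m := by simp [Finset.insert_subset_iff, *]
    have hcard : ({a, e, f, u, v, w} : Finset α).card = 6 := by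
      have au : a ≠ u := fun x => a3 (x ▸ u3)
      have av : a ≠ v := fun x => a4 (x ▸ v4)
      have aw : a ≠ w := fun x => a5 (x ▸ w5)
      simp [hae, haf, au, av, aw, hef, ne3 he, ne4 he, ne5 he, ne3 hf, ne4 hf, ne5 hf, huv, huw, hvw]
    have := Finset.card_le_card hsub
    rw [hcard, h.card_line hm] at this
    omega

/-- Every 4-arc lies in exactly one hyperoval. -/
theorem hyperoval_unique (h : IsPlane L) {Q : Finset α} (hQ4 : Q.card = 4) (hQ : IsArc L Q) :
    ∃! H : Finset α, (H.card = 6 ∧ IsArc L H) ∧ Q ⊆ H := by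
  obtain ⟨h2, hsep⟩ := h.offPts_spec hQ4 hQ
  have hdisj : Disjoint Q (offPts L Q) := by
    rw [Finset.disjoint_left]
    intro x hx ho
    obtain ⟨y, hy⟩ := Finset.card_pos.mp (show 0 < (Q.erase x).card by rw [Finset.card_erase_of_mem hx]; omega)
    obtain ⟨hyx, hy⟩ := Finset.mem_erase.mp hy
    obtain ⟨l, hl, xl, yl⟩ := h.exists_line (Ne.symm hyx)
    refine (Finset.mem_filter.mp ho).2 l hl ?_ xl
    have hsub : ({x, y} : Finset α) ⊆ l ∩ Q := by simp [Finset.insert_subset_iff, *]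
    simpa [Finset.card_pair (Ne.symm hyx)] using Finset.card_le_card hsub
  refine ⟨Q ∪ offPts L Q, ⟨⟨by rw [Finset.card_union_of_disjoint hdisj]; omega, fun l hl => ?_⟩,
    Finset.subset_union_left⟩, ?_⟩
  · rw [Finset.inter_union_distrib_left]
    refine (Finset.card_union_le _ _).trans ?_
    rcases Nat.lt_or_ge 1 (l ∩ offPts L Q).card with h1 | h1
    · obtain ⟨e, he, f, hf, hef⟩ := Finset.one_lt_card.mp h1
      rw [Finset.mem_inter] at he hf
      rw [hsep l hl e he.2 f hf.2 hef he.1 hf.1, Finset.card_empty, zero_add]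
      exact (Finset.card_le_card Finset.inter_subset_right).trans h2.le
    · rcases Nat.eq_zero_or_pos (l ∩ offPts L Q).card with h0 | h0
      · rw [h0, add_zero]; exact hQ l hl
      · obtain ⟨e, he⟩ := Finset.card_pos.mp h0
        rw [Finset.mem_inter] at he
        have : (l ∩ Q).card < 2 := by
          by_contra hc
          exact (Finset.mem_filter.mp he.2).2 l hl (by omega) he.1
        omega
  · rintro H ⟨⟨h6, hH⟩, hQH⟩
    have hsub : H \ Q ⊆ offPts L Q := by
      intro p hp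
      obtain ⟨pH, pQ⟩ := Finset.mem_sdiff.mp hp
      refine Finset.mem_filter.mpr ⟨Finset.mem_univ _, fun l hl h2' pl => ?_⟩
      have hs : insert p (l ∩ Q) ⊆ l ∩ H := by
        refine Finset.insert_subset_iff.mpr ⟨Finset.mem_inter.mpr ⟨pl, pH⟩, ?_⟩
        exact Finset.inter_subset_inter_left hQH
      have := Finset.card_le_card hs
      rw [Finset.card_insert_of_notMem (fun x => pQ (Finset.mem_inter.mp x).2)] at this
      have := hH l hl
      omega
    have e := Finset.eq_of_subset_of_card_le hsub (by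
      rw [h2, Finset.card_sdiff_of_subset hQH]; omega)
    rw [← e, Finset.union_sdiff_of_subset hQH]

open Classical in
/-- There are 2520 4-arcs. -/
theorem card_arcs (h : IsPlane L) :
    ((powersetCard 4 (univ : Finset α)).filter fun S => IsArc L S).card = 2520 := by
  let T3 := (powersetCard 3 (univ : Finset α)).filter fun S => IsArc L S
  have hcol : (powersetCard 3 (univ : Finset α)).filter (fun S => ¬ IsArc L S) =
      L.biUnion fun l => l.powersetCard 3 := by
    ext S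
    simp only [Finset.mem_filter, Finset.mem_powersetCard, Finset.subset_univ, true_and, IsArc,
      Finset.mem_biUnion, not_forall]
    constructor
    · rintro ⟨hS, l, hl, h2⟩
      refine ⟨l, hl, ?_, hS⟩
      have := Finset.card_le_card (Finset.inter_subset_right (s₁ := l) (s₂ := S))
      exact Finset.inter_eq_right.mp (Finset.eq_of_subset_of_card_le Finset.inter_subset_right (by omega))
    · rintro ⟨l, hl, hsub, hS⟩
      exact ⟨hS, l, hl, by rw [Finset.inter_eq_right.mpr hsub]; omega⟩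
  have hdis : (L : Set (Finset α)).PairwiseDisjoint fun l => l.powersetCard 3 := by
    intro l hl m hm hne
    simp only [Function.onFun, Finset.disjoint_left, Finset.mem_powersetCard]
    rintro S ⟨hSl, hS⟩ ⟨hSm, -⟩
    obtain ⟨x, hx, y, hy, hxy⟩ := Finset.one_lt_card.mp (show 1 < S.card by omega)
    exact hne (h.line_unique hxy hl hm (hSl hx) (hSl hy) (hSm hx) (hSm hy))
  have hT3 : T3.card = 1120 := by
    have := Finset.card_filter_add_card_filter_not (s := powersetCard 3 (univ : Finset α)) (fun S => IsArc L S)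
    rw [hcol, Finset.card_biUnion hdis, Finset.sum_congr rfl (g := fun _ => 10) (fun l hl => by
      rw [Finset.card_powersetCard, h.card_line hl]; rfl), Finset.sum_const, h.card_lines,
      Finset.card_powersetCard, Finset.card_univ, h.card] at this
    simp only [smul_eq_mul] at this
    have h1330 : Nat.choose 21 3 = 1330 := rfl
    show ((powersetCard 3 (univ : Finset α)).filter fun S => IsArc L S).card = 1120
    omega
  have habove : ∀ S ∈ T3, (((powersetCard 4 (univ : Finset α)).filter fun Q => IsArc L Q).bipartiteAbove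
      (fun S Q => S ⊆ Q) S).card = 9 := by
    intro S hS
    simp only [T3, Finset.mem_filter, Finset.mem_powersetCard] at hS
    obtain ⟨⟨-, hS3⟩, hSa⟩ := hS
    obtain ⟨a, b, c, hab, hac, hbc, rfl⟩ := Finset.card_eq_three.mp hS3
    obtain ⟨l₁, h₁, a1, b1⟩ := h.exists_line hab
    obtain ⟨l₂, h₂, a2, c2⟩ := h.exists_line hac
    obtain ⟨l₃, h₃, b3, c3⟩ := h.exists_line hbc
    have c1 := h.not_three hSa (x := a) (y := b) (z := c) (by simp) (by simp) (by simp) hab hac hbc h₁ a1 b1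
    rw [← h.triangle_off h₁ h₂ h₃ a1 b1 a2 c2 b3 c3 hab hac hbc c1]
    symm
    have hins : ∀ d ∈ univ \ (l₁ ∪ l₂ ∪ l₃), d ∉ ({a, b, c} : Finset α) := by
      intro d hd
      simp only [Finset.mem_sdiff, Finset.mem_univ, Finset.mem_union, true_and, not_or] at hd
      simp only [Finset.mem_insert, Finset.mem_singleton]
      rintro (rfl | rfl | rfl)
      · exact hd.1.1 a1
      · exact hd.1.1 b1
      · exact hd.1.2 c2
    refine Finset.card_bij (fun d _ => insert d ({a, b, c} : Finset α)) ?_ ?_ ?_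
    · intro d hd
      have hd0 := hins d hd
      simp only [Finset.mem_sdiff, Finset.mem_univ, Finset.mem_union, true_and, not_or] at hd
      simp only [Finset.bipartiteAbove, Finset.mem_filter, Finset.mem_powersetCard, Finset.subset_univ,
        true_and]
      refine ⟨⟨by rw [Finset.card_insert_of_notMem hd0, hS3], fun l hl => ?_⟩, Finset.subset_insert _ _⟩
      by_cases dl : d ∈ l
      · have hle : (l ∩ {a, b, c}).card ≤ 1 := by
          by_contra hc
          obtain ⟨x, hx, y, hy, hxy⟩ := Finset.one_lt_card.mp (not_le.mp hc)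
          simp only [Finset.mem_inter, Finset.mem_insert, Finset.mem_singleton] at hx hy
          have fin : ∀ k ∈ L, x ∈ k → y ∈ k → d ∉ k → False := fun k hk xk yk dk =>
            dk (h.line_unique hxy hl hk hx.1 hy.1 xk yk ▸ dl)
          rcases hx.2 with rfl | rfl | rfl <;> rcases hy.2 with rfl | rfl | rfl
          all_goals first
            | exact hxy rfl
            | exact fin l₁ h₁ (by assumption) (by assumption) hd.1.1
            | exact fin l₂ h₂ (by assumption) (by assumption) hd.1.2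
            | exact fin l₃ h₃ (by assumption) (by assumption) hd.2
        rw [Finset.inter_insert_of_mem dl]
        exact (Finset.card_insert_le _ _).trans (by omega)
      · rw [Finset.inter_insert_of_notMem dl]; exact hSa l hl
    · intro d hd e he heq
      have : d ∈ insert e ({a, b, c} : Finset α) := heq ▸ Finset.mem_insert_self _ _
      exact (Finset.mem_insert.mp this).resolve_right (hins d hd)
    · intro Q hQ
      simp only [Finset.bipartiteAbove, Finset.mem_filter, Finset.mem_powersetCard, Finset.subset_univ,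
        true_and] at hQ
      obtain ⟨⟨hQ4, hQa⟩, hsub⟩ := hQ
      obtain ⟨d, hd⟩ := Finset.card_eq_one.mp (show (Q \ {a, b, c}).card = 1 by
        rw [Finset.card_sdiff_of_subset hsub, hQ4, hS3])
      have hdQ : d ∈ Q \ {a, b, c} := hd ▸ Finset.mem_singleton_self d
      obtain ⟨hdQ, hdn⟩ := Finset.mem_sdiff.mp hdQ
      simp only [Finset.mem_insert, Finset.mem_singleton, not_or] at hdn
      refine ⟨d, ?_, ?_⟩
      · have ha : a ∈ Q := hsub (by simp)
        have hb : b ∈ Q := hsub (by simp)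
        have hc : c ∈ Q := hsub (by simp)
        simp only [Finset.mem_sdiff, Finset.mem_univ, Finset.mem_union, true_and, not_or]
        exact ⟨⟨h.not_three hQa ha hb hdQ hab (Ne.symm hdn.1) (Ne.symm hdn.2.1) h₁ a1 b1,
          h.not_three hQa ha hc hdQ hac (Ne.symm hdn.1) (Ne.symm hdn.2.2) h₂ a2 c2⟩,
          h.not_three hQa hb hc hdQ hbc (Ne.symm hdn.2.1) (Ne.symm hdn.2.2) h₃ b3 c3⟩
      · rw [Finset.insert_eq, ← hd, Finset.sdiff_union_of_subset hsub]
  have hbelow : ∀ Q ∈ (powersetCard 4 (univ : Finset α)).filter (fun Q => IsArc L Q),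
      (T3.bipartiteBelow (fun S Q => S ⊆ Q) Q).card = 4 := by
    intro Q hQ
    simp only [Finset.mem_filter, Finset.mem_powersetCard] at hQ
    have : T3.bipartiteBelow (fun S Q => S ⊆ Q) Q = Q.powersetCard 3 := by
      ext S
      simp only [Finset.bipartiteBelow, T3, Finset.mem_filter, Finset.mem_powersetCard, Finset.subset_univ,
        true_and]
      exact ⟨fun hh => ⟨hh.2, hh.1.1⟩, fun hh => ⟨⟨hh.2, hQ.2.mono hh.1⟩, hh.1⟩⟩
    rw [this, Finset.card_powersetCard, hQ.1.2]; rfl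
  have := Finset.card_mul_eq_card_mul (fun S Q : Finset α => S ⊆ Q) habove hbelow
  omega

open Classical in
/-- There are 168 hyperovals. -/
theorem card_hyperovals (h : IsPlane L) :
    ((powersetCard 6 (univ : Finset α)).filter fun S => IsArc L S).card = 168 := by
  let H6 := (powersetCard 6 (univ : Finset α)).filter fun S => IsArc L S
  have habove : ∀ Q ∈ (powersetCard 4 (univ : Finset α)).filter (fun Q => IsArc L Q),
      (H6.bipartiteAbove (fun Q H => Q ⊆ H) Q).card = 1 := by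
    intro Q hQ
    simp only [Finset.mem_filter, Finset.mem_powersetCard] at hQ
    obtain ⟨H, hH, hu⟩ := h.hyperoval_unique hQ.1.2 hQ.2
    refine Finset.card_eq_one.mpr ⟨H, ?_⟩
    ext K
    simp only [Finset.bipartiteAbove, H6, Finset.mem_filter, Finset.mem_powersetCard, Finset.subset_univ,
      true_and, Finset.mem_singleton]
    exact ⟨fun hK => hu K hK, fun e => e ▸ hH⟩
  have hbelow : ∀ H ∈ H6, (((powersetCard 4 (univ : Finset α)).filter fun Q => IsArc L Q).bipartiteBelow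
      (fun Q H => Q ⊆ H) H).card = 15 := by
    intro H hH
    simp only [H6, Finset.mem_filter, Finset.mem_powersetCard] at hH
    have : ((powersetCard 4 (univ : Finset α)).filter fun Q => IsArc L Q).bipartiteBelow
        (fun Q H => Q ⊆ H) H = H.powersetCard 4 := by
      ext S
      simp only [Finset.bipartiteBelow, Finset.mem_filter, Finset.mem_powersetCard, Finset.subset_univ,
        true_and]
      exact ⟨fun hh => ⟨hh.2, hh.1.1⟩, fun hh => ⟨⟨hh.2, hH.2.mono hh.1⟩, hh.1⟩⟩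
    rw [this, Finset.card_powersetCard, hH.1.2]; rfl
  have := Finset.card_mul_eq_card_mul (fun Q H : Finset α => Q ⊆ H) habove hbelow
  rw [h.card_arcs] at this
  show H6.card = 168
  omega

end IsPlane

end Cfsg.Agent.Lib.Plane4.Basic
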